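import Groth.Agent.HopfQuot.UnipotentBaseChange
import Groth.Agent.HopfLib.LieKolchinComod
import Groth.Agent.CAlgH.RegularSmooth
import Groth.Agent.CAlgH3.GeomBridge
import Groth.Agent.SGA3cLib.GeomConn
import Groth.Agent.Et18.RosenlichtAlg
import Groth.Prelude.Def_SGA3b

/-!
# Units on smooth connected unipotent groups are constant
-/

set_option autoImplicit false
set_option backward.isDefEq.respectTransparency.types false
set_option linter.style.haveILetI false

universe u

open TensorProduct WithConv HopfRep CategoryTheory Limits AlgebraicGeometry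
open Groth.Agent.HopfLib Groth.Agent.HopfQuot

noncomputable section

namespace Groth.Agent.HopfUnip26

theorem evR_point {K : Type u} [Field K] {C : Type u} [CommRing C] [HopfAlgebra K C] (x : C →ₐ[K] K) (a : C) :
    Et18.Rosenlicht.evR C x (CoalgebraStruct.comul (R := K) a) = hit (V := C) x.toLinearMap a := by
  rw [hit_regular]
  induction CoalgebraStruct.comul (R := K) a using TensorProduct.induction_on with
  | zero => simp
  | add p q hp hq => rw [map_add, map_add, hp, hq]
  | tmul p q => simp [Et18.Rosenlicht.evR, sliceR_tmul, Algebra.smul_def, mul_comm]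

/-- Units of a connected reduced unipotent Hopf algebra over an algebraically closed field are constant. -/
theorem unit_eq_counit {K : Type u} [Field K] [IsAlgClosed K] {C : Type u} [CommRing C] [HopfAlgebra K C]
    [Algebra.FiniteType K C] [IsReduced C] (hconn : ∀ e : C, IsIdempotentElem e → e = 0 ∨ e = 1)
    (hU : IsUnipotent K C) {u : C} (hu : IsUnit u) :
    u = algebraMap K C (Bialgebra.counitAlgHom K C u) := by
  haveI := LieKolchin.isDomain K hconn
  let ε := Bialgebra.counitAlgHom K C
  obtain ⟨v, hv⟩ := hu.exists_right_inv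
  have hc : ε u ≠ 0 := fun h => by
    have h' := congrArg ε hv
    rw [map_mul, h, zero_mul, map_one] at h'
    exact zero_ne_one h'
  have hfg : CoalgebraStruct.comul (R := K) u * CoalgebraStruct.comul (R := K) v = 1 := by
    rw [← Bialgebra.comul_mul, hv, Bialgebra.comul_one]
  have hε : ∀ a : C, hit (V := C) ε.toLinearMap a = a := fun a => by
    rw [hit_regular]
    show sliceR (CoalgebraStruct.counit (R := K)) _ = a
    have := Coalgebra.lTensor_counit_comul (R := K) a
    simp [sliceR, this]
  -- translates of `u` are multiples of `u`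
  have key : ∀ x : C →ₐ[K] K, hit (V := C) x.toLinearMap u = (x u / ε u) • u := by
    intro x
    refine LieKolchin.pts_ext (k := K) fun y => ?_
    have h := Et18.Rosenlicht.cross_ratio K hfg y.ofConv ε x ε
    rw [evR_point, evR_point, hε] at h
    have hx : ε (hit (V := C) x.toLinearMap u) = x u := counit_hit x.toLinearMap u
    rw [hx] at h
    rw [map_smul, smul_eq_mul, div_mul_eq_mul_div, eq_div_iff hc, h, mul_comm]
  obtain ⟨r₀, hr₀⟩ := isUnipotent_iff_forall_mem_socFil.1 hU u
  refine LieKolchin.pts_ext (k := K) fun y => ?_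
  rw [AlgHom.commutes, Algebra.algebraMap_self, RingHom.id_apply]
  by_contra hne
  let φ : C →ₗ[K] K := y.ofConv.toLinearMap - ε.toLinearMap
  have hφ : φ 1 = 0 := by simp [φ]
  have hφu : hit (V := C) φ u = ((y.ofConv u / ε u) - 1) • u := by
    have : hit (V := C) φ u = hit (V := C) y.ofConv.toLinearMap u - hit (V := C) ε.toLinearMap u := by
      simp only [φ, hit_regular, sliceR]
      simp [LinearMap.lTensor_sub]
    rw [this, key, hε, sub_smul, one_smul]
  have hs : (y.ofConv u / ε u) - 1 ≠ 0 := fun h => hne (div_eq_one_iff_eq hc |>.1 (sub_eq_zero.1 h))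
  have down : ∀ r, u ∈ socFil K C r → False := by
    intro r
    induction r with
    | zero =>
      intro h
      rw [socFil, Submodule.mem_bot] at h
      exact hu.ne_zero h
    | succ r ih =>
      intro h
      have h' := mem_socFil_succ.1 h φ hφ
      rw [hφu] at h'
      exact ih ((Submodule.smul_mem_iff _ hs).1 h')
  exact down _ hr₀

/-- Idempotents stay trivial in extensions of the ground field. -/
theorem idempotent_trivial_baseChange (k : Type u) [Field k] (C : Type u) [CommRing C] [HopfAlgebra k C]
    (hconn : ∀ e : C, IsIdempotentElem e → e = 0 ∨ e = 1) (K : Type u) [Field K] [Algebra k K]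
    {e : K ⊗[k] C} (he : IsIdempotentElem e) : e = 0 ∨ e = 1 := by
  haveI : Nontrivial C := (Bialgebra.counitAlgHom k C).toRingHom.domain_nontrivial
  haveI : ConnectedSpace (PrimeSpectrum C) := by
    haveI : PreconnectedSpace (PrimeSpectrum C) := preconnectedSpace_iff_clopen.2 fun s hs => by
      obtain ⟨d, hd, rfl⟩ := PrimeSpectrum.isClopen_iff.1 hs
      rcases hconn d hd with rfl | rfl
      · left; simp
      · right; simp
    exact ⟨inferInstance⟩
  haveI : ConnectedSpace ↥(Spec (CommRingCat.of C)) := ‹ConnectedSpace (PrimeSpectrum C)›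
  let x : Spec (CommRingCat.of k) ⟶ Spec (CommRingCat.of C) :=
    Spec.map (CommRingCat.ofHom (Bialgebra.counitAlgHom k C).toRingHom)
  have hx : x ≫ CAlgH3.GeomBridge.str k C = 𝟙 _ := by
    rw [← Spec.map_comp, ← CommRingCat.ofHom_comp, ← Spec.map_id]
    congr 1
    ext c
    exact (Bialgebra.counitAlgHom k C).commutes c
  have := SGA3cLib.geometricallyConnected_of_rational_point k (CAlgH3.GeomBridge.str k C)
    (𝟙 (Spec (CommRingCat.of C))) x hx (by simp)
  rw [Category.id_comp] at this
  haveI := (CAlgH3.GeomBridge.connected_iff k C).1 this K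
  exact CAlgH3.GeomBridge.isIdempotentElem_trivial_of_connected _ he

/-- Maps to a smooth connected unipotent group are constant on a group of multiplicative type. -/
theorem const_of_multType (k : Type u) [Field k] (C B : Type u) [CommRing C] [HopfAlgebra k C]
    [Algebra.FiniteType k C] [Algebra.FormallySmooth k C]
    (hconn : ∀ e : C, IsIdempotentElem e → e = 0 ∨ e = 1)
    (hU : IsUnipotent k C) [CommRing B] [HopfAlgebra k B]
    (hB : SGA3b.IsMultTypeConst k B) (f : B →ₐ[k] C) (b : B) :
    f b = algebraMap k C (Bialgebra.counitAlgHom k C (f b)) := by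
  classical
  obtain ⟨R', _, _, hff, M, _, ⟨e⟩⟩ := hB
  haveI := hff
  haveI : Nontrivial R' := by
    by_contra hnt
    rw [not_nontrivial_iff_subsingleton] at hnt
    exact hff.submodule_ne_top (m := ⊥) Ideal.bot_isMaximal (Submodule.eq_top_iff'.2 fun x => by
      rw [Subsingleton.elim x 0]; exact zero_mem _)
  obtain ⟨m, hm⟩ := Ideal.exists_maximal R'
  letI := Ideal.Quotient.field m
  let K := AlgebraicClosure (R' ⧸ m)
  let q : R' →ₐ[k] K := (IsScalarTower.toAlgHom k (R' ⧸ m) K).comp (Ideal.Quotient.mkₐ k m)
  let θ : R' ⊗[k] B →ₐ[k] K ⊗[k] C := Algebra.TensorProduct.map q f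
  let eA : R' ⊗[k] B ≃ₐ[R'] MonoidAlgebra R' M := e
  haveI : Algebra.FinitePresentation k C := Algebra.FinitePresentation.of_finiteType.1 ‹_›
  haveI : Algebra.Smooth k C := ⟨inferInstance, inferInstance⟩
  haveI : IsReduced (K ⊗[k] C) := CAlgH.isReduced_of_smooth K (K ⊗[k] C)
  have hUK : IsUnipotent K (K ⊗[k] C) := isUnipotent_iff_baseChange.1 hU
  have hcK : ∀ x : K ⊗[k] C, IsIdempotentElem x → x = 0 ∨ x = 1 := fun x hx =>
    idempotent_trivial_baseChange k C hconn K hx
  let εK := Bialgebra.counitAlgHom K (K ⊗[k] C)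
  let φ : MonoidAlgebra R' M →ₐ[k] K ⊗[k] C := θ.comp (eA.symm.toAlgHom.restrictScalars k)
  have hφ : ∀ z : MonoidAlgebra R' M, φ z = algebraMap K (K ⊗[k] C) (εK (φ z)) := by
    intro z
    induction z using MonoidAlgebra.induction_linear with
    | zero => simp
    | add p q hp hq => rw [map_add, map_add, map_add, ← hp, ← hq]
    | single g r =>
      have hg : IsUnit (MonoidAlgebra.single g (1 : R')) :=
        IsUnit.of_mul_eq_one (MonoidAlgebra.single g⁻¹ 1) (by
          rw [MonoidAlgebra.single_mul_single, mul_inv_cancel, one_mul]; rfl)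
      have e1 := unit_eq_counit hcK hUK (hg.map φ)
      have e2 : MonoidAlgebra.single g r = algebraMap R' (MonoidAlgebra R' M) r * MonoidAlgebra.single g 1 := by
        rw [← Algebra.smul_def, MonoidAlgebra.smul_single, smul_eq_mul, mul_one]
      have e3 : φ (algebraMap R' (MonoidAlgebra R' M) r) = algebraMap K (K ⊗[k] C) (q r) := by
        show θ (eA.symm (algebraMap R' _ r)) = _
        rw [AlgEquiv.commutes]
        simp [θ, Algebra.TensorProduct.algebraMap_apply]
      rw [e2, map_mul, e3, map_mul, map_mul, e1, AlgHom.commutes εK, AlgHom.commutes εK]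
      simp
  have hb : (1 : K) ⊗ₜ[k] f b = φ (eA ((1 : R') ⊗ₜ b)) := by
    show _ = θ (eA.symm (eA ((1 : R') ⊗ₜ b)))
    rw [AlgEquiv.symm_apply_apply]
    simp [θ]
  have h2 := hφ (eA ((1 : R') ⊗ₜ b))
  rw [← hb] at h2
  apply Algebra.TensorProduct.includeRight_injective (R := k) (A := K) (B := C) (algebraMap k K).injective
  rw [Algebra.TensorProduct.includeRight_apply, Algebra.TensorProduct.includeRight_apply, h2]
  simp [εK, Algebra.algebraMap_eq_smul_one, TensorProduct.smul_tmul', Algebra.TensorProduct.one_def]

end Groth.Agent.HopfUnip26
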