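import Groth.Agent.HopfQuot.UnipotentCrit
import Groth.Agent.HopfQuot.CommMultPart
import Groth.Agent.HopfQuot.UnipotentInduction
import Groth.Agent.HopfQuot.Trigonalizable

/-!
Unipotence of quotients and extensions of affine groups.
-/

set_option autoImplicit false
set_option linter.style.haveILetI false
set_option backward.isDefEq.respectTransparency.types false

open TensorProduct HopfRep Groth.Agent.HopfLib Groth.Agent.HopfQuot Groth.Agent.HopfQuot.CommMultPart

universe u

namespace Groth.Agent.HopfUnip26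

variable {k : Type u} [Field k] {A : Type u} [CommRing A] [HopfAlgebra k A]
  {C : Type u} [CommRing C] [HopfAlgebra k C]

theorem isUnipotent_of_injective (ψ : C →ₐc[k] A) (hψ : Function.Injective ψ) (hA : IsUnipotent k A) :
    IsUnipotent k C :=
  isUnipotent_iff_forall_mem_socFil.2 fun c => by
    obtain ⟨r, hr⟩ := isUnipotent_iff_forall_mem_socFil.1 hA (ψ c)
    exact ⟨r, mem_socFil_of_injective ψ hψ _ _ hr⟩

theorem isUnipotent_of_extension (ψ : C →ₐc[k] A) (J : Ideal A) [J.IsHopfIdeal k]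
    (hψ : Function.Injective ψ)
    (hJ : J = Ideal.map (ψ : C →+* A) (RingHom.ker (Bialgebra.counitAlgHom k C)))
    (hC : IsUnipotent k C) (hU : IsUnipotent k (A ⧸ J)) : IsUnipotent k A := by
  classical
  let S : Subalgebra k A := (ψ : C →ₐ[k] A).range
  have hS : SGA3.IsHopfSubalgebra k A S := by
    refine ⟨?_, ?_⟩
    · rintro _ ⟨b, rfl⟩
      show CoalgebraStruct.comul (R := k) ((ψ : C →ₐ[k] A) b) ∈ _
      rw [show CoalgebraStruct.comul (R := k) ((ψ : C →ₐ[k] A) b) = _ from (CoalgHomClass.map_comp_comul_apply ψ b).symm]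
      generalize CoalgebraStruct.comul (R := k) b = t
      induction t using TensorProduct.induction_on with
      | zero => simp
      | add p q hp hq => rw [map_add]; exact add_mem hp hq
      | tmul p q => exact ⟨(⟨_, p, rfl⟩ : S) ⊗ₜ (⟨_, q, rfl⟩ : S), rfl⟩
    · rintro _ ⟨b, rfl⟩
      exact ⟨_, map_antipode' ψ b⟩
  have hJS : J = SGA3.augIdealSpan k A S := by
    rw [hJ]
    refine congrArg Ideal.span (Set.ext fun a => ⟨?_, ?_⟩)
    · rintro ⟨b, hb, rfl⟩
      exact ⟨⟨b, rfl⟩, (CoalgHomClass.counit_comp_apply ψ b).trans hb⟩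
    · rintro ⟨⟨b, rfl⟩, hb⟩
      exact ⟨b, (CoalgHomClass.counit_comp_apply ψ b).symm.trans hb, rfl⟩
  have hN : IsNormalSub k A J := hJS ▸ isNormalSub_augIdealSpan hS
  have hinv : invAlg k J = S := hJS ▸ invAlg_eq_of_augIdealSpan hS
  intro V _ _ _ hfin hnt
  refine exists_fixed_of_simple_fixed fun L _ _ cL hL hLs => ?_
  have := hLs.1
  let cJ : Comod k (A ⧸ J) L := comodMap (Bialgebra.Quotient.mkBialgHom (R := k) J : A →ₗc[k] A ⧸ J) cL
  let W : Submodule k L := @fixedPts k (A ⧸ J) _ _ _ L _ _ cJ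
  have hWiff : ∀ v : L, v ∈ W ↔ LinearMap.lTensor L (Ideal.Quotient.mkₐ k J).toLinearMap
      (Comod.coact (k := k) (A := A) v) = v ⊗ₜ[k] (1 : A ⧸ J) := fun v => Iff.rfl
  have hWtop : W = ⊤ := by
    rcases hLs.2 W (isSubcomod_fixed hN W hWiff) with h | h
    · exact absurd h (@hU L _ _ cJ hL inferInstance)
    · exact h
  have hcf : ∀ (f : L →ₗ[k] k) (v : L), cf (A := A) f v ∈ S := by
    intro f v
    rw [← hinv, mem_invAlg, shift_eq, show CoalgebraStruct.comul (R := k) (cf (A := A) f v) =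
      Comod.coact (k := k) (A := A) (cf (A := A) f v) from rfl, IsComodHom.coact_apply (isComodHom_cf (A := A) f) v,
      ← LinearMap.comp_apply, LinearMap.lTensor_comp_rTensor, ← LinearMap.rTensor_comp_lTensor,
      LinearMap.comp_apply, (hWiff v).1 (hWtop ▸ Submodule.mem_top), LinearMap.rTensor_tmul]
  let F : ℕ → Submodule k A := fun r => (socFil k C (r + 1)).map (ψ : C →ₗ[k] A)
  have hmono : Monotone F := fun i j hij => Submodule.map_mono (socFil_mono (Nat.add_le_add_right hij 1))
  obtain ⟨v₀, hv₀⟩ := exists_ne (0 : L)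
  refine exists_fixed_of_cf_mem F ?_ hmono ?_ hv₀ ?_
  · show (socFil k C 1).map (ψ : C →ₗ[k] A) = _
    rw [socFil_one, Submodule.map_span, Set.image_singleton]
    congr 2
    exact map_one ψ
  · intro r a ha g hg
    obtain ⟨c, hc, rfl⟩ := ha
    show hit (V := A) g (ψ c) ∈ _
    rw [← map_hit ψ g c]
    refine ⟨_, (mem_socFil_succ.1 hc) _ ?_, rfl⟩
    show g (ψ 1) = 0
    rw [map_one, hg]
  · obtain ⟨t, ht⟩ := (mem_range_lTensor_subtype_iff (W := Subalgebra.toSubmodule S)
      (t := Comod.coact (k := k) (A := A) v₀)).2 fun f => hcf f v₀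
    have : ∀ t : L ⊗[k] Subalgebra.toSubmodule S, ∃ r, ∀ f : L →ₗ[k] k,
        sliceL f (LinearMap.lTensor L (Subalgebra.toSubmodule S).subtype t) ∈ F r := by
      intro t
      induction t using TensorProduct.induction_on with
      | zero => exact ⟨0, fun f => by simp⟩
      | tmul v b =>
        obtain ⟨c, hc⟩ := b.2
        obtain ⟨r, hr⟩ := isUnipotent_iff_forall_mem_socFil.1 hC c
        exact ⟨r, fun f => by
          rw [LinearMap.lTensor_tmul, sliceL_tmul]; exact Submodule.smul_mem _ _ ⟨c, hr, hc⟩⟩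
      | add p q hp hq =>
        obtain ⟨r, hr⟩ := hp
        obtain ⟨s, hs⟩ := hq
        exact ⟨max r s, fun f => by
          rw [map_add, map_add]
          exact add_mem (hmono (le_max_left r s) (hr f)) (hmono (le_max_right r s) (hs f))⟩
    obtain ⟨r, hr⟩ := this t
    exact ⟨r, fun f => by rw [cf_apply, ← ht]; exact hr f⟩

end Groth.Agent.HopfUnip26
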