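import Groth.Agent.HopfLib.Chevalley

/-!
Chevalley: a closed subgroup is the stabiliser of a line.
-/

set_option autoImplicit false
set_option linter.style.haveILetI false


open TensorProduct HopfRep

universe u

namespace Groth.Agent.HopfLib

set_option linter.unusedSectionVars false
set_option maxHeartbeats 800000

variable {k : Type u} [Field k] {A B : Type u} [CommRing A] [HopfAlgebra k A] [Algebra.FiniteType k A]
  [CommRing B] [HopfAlgebra k B]

theorem exists_stabilizesLine_any (π : A →ₐc[k] B) (hπ : Function.Surjective π) :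
    ∃ (V : Type u) (_ : AddCommGroup V) (_ : Module k V) (_ : Comod k A V) (_ : Module.Finite k V) (v : V),
      v ≠ 0 ∧ Dyn.Represents k A (RingHom.ker (π : A →+* B)) (fun R _ _ g => SGA3.StabilizesLine k A v R g) := by
  classical
  obtain ⟨d, e, a, hε, hΔ, hπa, hcut⟩ := exists_matrix_cutting_out π hπ
  -- the minors
  let rowsel : Option (Fin d × Fin e) → Fin d → Fin d ⊕ Fin e := fun o i =>
    o.elim (Sum.inl i) fun p => if i = p.1 then Sum.inr p.2 else Sum.inl i
  let F : Option (Fin d × Fin e) → A := fun o => Matrix.det (Matrix.of fun l i => a (rowsel o l) (Sum.inl i))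
  have hF0 : CoalgebraStruct.counit (R := k) (F none) = 1 := by
    show Bialgebra.counitAlgHom k A _ = 1
    rw [AlgHom.map_det]
    convert Matrix.det_one (n := Fin d) (R := k)
    refine Matrix.ext fun l i => ?_
    simp [rowsel, hε, Matrix.one_apply, Sum.inl_injective.eq_iff]
  -- points killing the corner act on minors by a scalar
  have hshift : ∀ (R : Type u) [CommRing R] [Algebra k R] (g : A →ₐ[k] R),
      (∀ (j : Fin e) (i : Fin d), g (a (Sum.inr j) (Sum.inl i)) = 0) →
        ∀ o, ptShift g (F o) = F o ⊗ₜ[k] g (F none) := by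
    intro R _ _ g hg o
    have hmat : (ptShift g).mapMatrix (Matrix.of fun l i => a (rowsel o l) (Sum.inl i)) =
        (Algebra.TensorProduct.includeLeft : A →ₐ[k] A ⊗[k] R).mapMatrix
            (Matrix.of fun l i => a (rowsel o l) (Sum.inl i)) *
          ((Algebra.TensorProduct.includeRight : R →ₐ[k] A ⊗[k] R).comp g).mapMatrix
            (Matrix.of fun l i => a (rowsel none l) (Sum.inl i)) := by
      refine Matrix.ext fun l i => ?_
      simp only [AlgHom.mapMatrix_apply, Matrix.map_apply, Matrix.of_apply, Matrix.mul_apply,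
        AlgHom.comp_apply, Algebra.TensorProduct.includeLeft_apply, Algebra.TensorProduct.includeRight_apply,
        Algebra.TensorProduct.tmul_mul_tmul, mul_one, one_mul]
      rw [ptShift_eq, hΔ, map_sum,
        Fintype.sum_sum_type]
      simp [hg, rowsel]
    show ptShift g (F o) = _
    rw [AlgHom.map_det, hmat, Matrix.det_mul, ← AlgHom.map_det, ← AlgHom.map_det]
    simp [F]
  let gπ : A →ₐ[k] B := π
  have hπF : ∀ o, ptShift gπ (F o) = F o ⊗ₜ[k] π (F none) := hshift B gπ hπa
  let χ := π (F none)
  have hχ : IsGroupLikeElem k χ := by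
    refine ⟨(LinearMap.congr_fun (CoalgHomClass.counit_comp π) (F none)).trans hF0, ?_⟩
    have h := congrArg ((π : A →ₐ[k] B).toLinearMap.rTensor B) (hπF none)
    rw [LinearMap.rTensor_tmul] at h
    refine Eq.trans ?_ h
    rw [ptShift_eq]
    refine (LinearMap.congr_fun (CoalgHomClass.map_comp_comul π) (F none)).symm.trans ?_
    simp only [LinearMap.comp_apply]
    generalize CoalgebraStruct.comul (R := k) (F none) = t
    induction t using TensorProduct.induction_on with
    | zero => simp
    | add p q hp hq => simp only [map_add, hp, hq]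
    | tmul p q => simp [gπ]
  -- a finite subcomodule containing a given tuple
  have hpi : ∀ {ι : Type} [Fintype ι] [DecidableEq ι] (vv : ι → A) (c : B),
      (∀ o, ptShift gπ (vv o) = vv o ⊗ₜ c) → vv ≠ 0 →
      ∃ (V : Type u) (_ : AddCommGroup V) (_ : Module k V) (_ : Comod k A V) (_ : Module.Finite k V) (v : V),
        v ≠ 0 ∧ LinearMap.lTensor V π.toLinearMap (Comod.coact (k := k) (A := A) v) = v ⊗ₜ[k] c ∧
        ∀ (R : Type u) [CommRing R] [Algebra k R] (g : A →ₐ[k] R),
          SGA3.StabilizesLine k A v R g ↔ ∃ r : R, ∀ o, ptShift g (vv o) = vv o ⊗ₜ r := by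
    intro ι _ _ vv c hvv hne
    let cP : Comod k A (ι → A) := ComodTens.Comod.pi fun _ : ι => Comod.regular k A
    obtain ⟨V, hV, hvV, hVs⟩ := @exists_finite_subcomod k _ A _ _ _ (ι → A) _ _ cP {vv} (Set.finite_singleton vv)
    refine ⟨V, inferInstance, inferInstance, ComodSub.Comod.restr cP V hVs, hV, ⟨vv, hvV rfl⟩,
      fun h => hne (congrArg Subtype.val h), ?_, ?_⟩
    all_goals
      have key : ∀ (R : Type u) [CommRing R] [Algebra k R] (g : A →ₐ[k] R) (r : R),
          LinearMap.lTensor V g.toLinearMap ((ComodSub.Comod.restr cP V hVs).coact ⟨vv, hvV rfl⟩) =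
              (⟨vv, hvV rfl⟩ : V) ⊗ₜ r ↔ ∀ o, ptShift g (vv o) = vv o ⊗ₜ r := by
        intro R _ _ g r
        rw [← (Module.Flat.rTensor_preserves_injective_linearMap (M := R) V.subtype V.injective_subtype).eq_iff]
        have e : V.subtype.rTensor R (LinearMap.lTensor V g.toLinearMap
            ((ComodSub.Comod.restr cP V hVs).coact ⟨vv, hvV rfl⟩)) =
            ∑ o, (LinearMap.single k (fun _ : ι => A) o).rTensor R (ptShift g (vv o)) := by
          rw [← LinearMap.comp_apply, LinearMap.rTensor_comp_lTensor, ← LinearMap.lTensor_comp_rTensor,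
            LinearMap.comp_apply, ComodSub.restr_coact_coe,
            show cP.coact vv = _ from ComodTens.pi_coact _ vv, map_sum]
          refine Finset.sum_congr rfl fun o _ => ?_
          rw [ptShift_eq, ← LinearMap.comp_apply, LinearMap.lTensor_comp_rTensor,
            ← LinearMap.rTensor_comp_lTensor, LinearMap.comp_apply]
          rfl
        rw [e, LinearMap.rTensor_tmul, Submodule.subtype_apply]
        refine ⟨fun h o => ?_, fun h => ?_⟩
        · have h1 := congrArg ((LinearMap.proj (R := k) (φ := fun _ : ι => A) o).rTensor R) h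
          rw [map_sum, Finset.sum_eq_single o] at h1
          · rw [← LinearMap.rTensor_comp_apply] at h1
            rw [show LinearMap.proj (R := k) (φ := fun _ : ι => A) o ∘ₗ LinearMap.single k (fun _ : ι => A) o =
              LinearMap.id from LinearMap.ext fun x => by simp, LinearMap.rTensor_id_apply,
              LinearMap.rTensor_tmul] at h1
            exact h1
          · intro o' _ ho'
            rw [← LinearMap.rTensor_comp_apply,
              show LinearMap.proj (R := k) (φ := fun _ : ι => A) o ∘ₗ LinearMap.single k (fun _ : ι => A) o' = 0 from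
              LinearMap.ext fun x => by simp [Pi.single_eq_of_ne (Ne.symm ho')], LinearMap.rTensor_zero,
              LinearMap.zero_apply]
          · simp
        · simp only [h, LinearMap.rTensor_tmul, ← TensorProduct.sum_tmul]
          congr 1
          exact Finset.univ_sum_single vv
    · exact (key B gπ c).2 hvv
    · exact fun R _ _ g => exists_congr fun r => key R g r
  have hne0 : F ≠ 0 := fun h => by
    have := hF0; rw [h] at this; simp at this
  obtain ⟨V, k₁, k₂, k₃, k₄, v, hv, -, hstab⟩ := hpi F χ hπF hne0
  refine ⟨V, k₁, k₂, k₃, k₄, v, hv, fun R _ _ g => ?_⟩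
  show _ ↔ SGA3.StabilizesLine k A v R g
  rw [hstab R g]
  refine ⟨fun hJ => ?_, fun ⟨r, hr⟩ => ?_⟩
  · have hker : RingHom.ker (π : A →+* B) ≤ RingHom.ker g := fun y hy => RingHom.mem_ker.2 (hJ y hy)
    let h : B →ₐ[k] R := AlgHom.liftOfSurjective (π : A →ₐ[k] B) hπ g hker
    have hgh : ∀ y, g y = h (π y) := fun y =>
      (AlgHom.liftOfSurjective_apply (π : A →ₐ[k] B) hπ g hker y).symm
    exact ⟨g (F none), hshift R g (fun j i => by rw [hgh, hπa, map_zero])⟩
  · have hru : IsUnit r := isUnit_of_ptShift g hF0 (hr none)
    have h0 := apply_eq_of_ptShift g (hr none)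
    rw [hF0, one_smul] at h0
    have hu1 : IsUnit (g (F none)) := h0 ▸ hru
    refine hcut R g fun j => ?_
    let M : Matrix (Fin d) (Fin d) R := Matrix.of fun l i => g (a (Sum.inl l) (Sum.inl i))
    let x : Fin d → R := fun i => g (a (Sum.inr j) (Sum.inl i))
    have hMdet : M.det = g (F none) := by
      show _ = g (Matrix.det _)
      rw [AlgHom.map_det]
      rfl
    have hminor : ∀ i₀, (M.updateRow i₀ x).det = 0 := by
      intro i₀
      have hz : CoalgebraStruct.counit (R := k) (F (some (i₀, j))) = 0 := by
        show Bialgebra.counitAlgHom k A _ = 0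
        rw [AlgHom.map_det]
        refine Matrix.det_eq_zero_of_row_eq_zero i₀ fun i => ?_
        simp [rowsel, hε]
      have h1 := apply_eq_of_ptShift g (hr (some (i₀, j)))
      rw [hz, zero_smul] at h1
      refine Eq.trans ?_ h1
      show _ = g (Matrix.det _)
      rw [AlgHom.map_det]
      congr 1
      refine Matrix.ext fun l i => ?_
      by_cases hl : l = i₀ <;> simp [M, x, rowsel, Matrix.updateRow_apply, hl]
    have hzero : Matrix.cramer M.transpose x = 0 := funext fun i₀ => by
      rw [Matrix.cramer_transpose_apply, hminor i₀]; rfl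
    have h2 := Matrix.mulVec_cramer M.transpose x
    rw [hzero, Matrix.mulVec_zero, Matrix.det_transpose, hMdet] at h2
    intro i
    have h3 := congrFun h2 i
    simp only [Pi.zero_apply, Pi.smul_apply, smul_eq_mul] at h3
    exact (hu1.mul_right_eq_zero).1 h3.symm

end Groth.Agent.HopfLib
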