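import Groth.Agent.HopfLib.UnipotentPoints
import Mathlib.RingTheory.Bialgebra.TensorProduct
import Mathlib.Algebra.CharP.Lemmas

/-!
Convolution powers of derivations at the counit in characteristic `p`.
-/

set_option autoImplicit false
set_option linter.style.haveILetI false
set_option backward.isDefEq.respectTransparency.types false

open TensorProduct WithConv HopfRep Groth.Agent.HopfLib

universe u v

namespace Groth.Agent.HopfUnip26

variable {k : Type u} [Field k] {A : Type v} [CommRing A] [HopfAlgebra k A]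

/-- Product of two functionals on the two factors. -/
noncomputable def TT (f g : WithConv (A →ₗ[k] k)) : WithConv (A ⊗[k] A →ₗ[k] k) :=
  toConv ((Algebra.TensorProduct.lmul' k : k ⊗[k] k →ₐ[k] k).toLinearMap ∘ₗ TensorProduct.map f.ofConv g.ofConv)

theorem TT_apply (f g : WithConv (A →ₗ[k] k)) (a b : A) : (TT f g).ofConv (a ⊗ₜ[k] b) = f.ofConv a * g.ofConv b := by
  simp [TT]

theorem TT_mul (f g h l : WithConv (A →ₗ[k] k)) : TT f g * TT h l = TT (f * h) (g * l) := by
  have e : toConv (TensorProduct.map (f * h).ofConv (g * l).ofConv) =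
      toConv (TensorProduct.map f.ofConv g.ofConv) * toConv (TensorProduct.map h.ofConv l.ofConv) :=
    TensorProduct.map_convMul_map.symm
  rw [TT, TT, TT, ← ofConv_toConv (TensorProduct.map (f * h).ofConv (g * l).ofConv), e,
    LinearMap.algHom_comp_convMul_distrib]

theorem TT_pow (f g : WithConv (A →ₗ[k] k)) : ∀ n, TT f g ^ n = TT (f ^ n) (g ^ n)
  | 0 => by
    refine WithConv.ext (TensorProduct.ext' fun a b => ?_)
    rw [pow_zero, pow_zero, pow_zero, TT_apply, LinearMap.convOne_def]
    simp [TensorProduct.counit_tmul, LinearMap.convOne_def, mul_comm]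
  | n + 1 => by rw [pow_succ, pow_succ, pow_succ, TT_pow f g n, TT_mul]

/-- Precomposition with the multiplication. -/
noncomputable def MM (f : WithConv (A →ₗ[k] k)) : WithConv (A ⊗[k] A →ₗ[k] k) :=
  toConv (f.ofConv.comp (Bialgebra.mulCoalgHom k A).toLinearMap)

theorem MM_apply (f : WithConv (A →ₗ[k] k)) (a b : A) : (MM f).ofConv (a ⊗ₜ[k] b) = f.ofConv (a * b) := by
  simp [MM, Bialgebra.mulCoalgHom]

theorem MM_pow (f : WithConv (A →ₗ[k] k)) : ∀ n, MM (f ^ n) = MM f ^ n
  | 0 => by
    refine WithConv.ext (TensorProduct.ext' fun a b => ?_)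
    rw [pow_zero, pow_zero, MM_apply, LinearMap.convOne_apply, LinearMap.convOne_apply]
    simp [TensorProduct.counit_tmul, mul_comm]
  | n + 1 => by
    rw [pow_succ, pow_succ, ← MM_pow f n]
    exact congrArg toConv (LinearMap.convMul_comp_coalgHom_distrib (f ^ n) f (Bialgebra.mulCoalgHom k A))

/-- In characteristic `p` the `p ^ n`-th power of a derivation at the counit is one. -/
theorem pow_prime_pow_mul (p : ℕ) [hp : Fact p.Prime] [CharP k p] (f : WithConv (A →ₗ[k] k))
    (hf : ∀ a b, f.ofConv (a * b) =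
      CoalgebraStruct.counit (R := k) a * f.ofConv b + CoalgebraStruct.counit (R := k) b * f.ofConv a)
    (n : ℕ) (a b : A) :
    (f ^ p ^ n).ofConv (a * b) =
      CoalgebraStruct.counit (R := k) a * (f ^ p ^ n).ofConv b +
        CoalgebraStruct.counit (R := k) b * (f ^ p ^ n).ofConv a := by
  have hsum : MM f = TT f 1 + TT 1 f := by
    refine WithConv.ext (TensorProduct.ext' fun x y => ?_)
    rw [MM_apply, ofConv_add, LinearMap.add_apply, TT_apply, TT_apply, hf, LinearMap.convOne_apply,
      LinearMap.convOne_apply]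
    simp [mul_comm, add_comm]
  have hcomm : Commute (TT f 1) (TT 1 f) := by
    rw [Commute, SemiconjBy, TT_mul, TT_mul, one_mul, mul_one]
  have hp0 : (p : WithConv (A ⊗[k] A →ₗ[k] k)) = 0 := by
    rw [← map_natCast (algebraMap k (WithConv (A ⊗[k] A →ₗ[k] k))), CharP.cast_eq_zero, map_zero]
  obtain ⟨r, hr⟩ := hcomm.exists_add_pow_prime_pow_eq hp.out n
  rw [hp0, zero_mul, zero_mul, zero_mul, add_zero, ← hsum, ← MM_pow, TT_pow, TT_pow, one_pow] at hr
  have h := congrArg (fun z : WithConv (A ⊗[k] A →ₗ[k] k) => z.ofConv (a ⊗ₜ[k] b)) hr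
  rw [MM_apply, ofConv_add, LinearMap.add_apply, TT_apply, TT_apply, LinearMap.convOne_apply,
    LinearMap.convOne_apply] at h
  rw [h]
  simp [mul_comm, add_comm]

theorem exists_pow_prime_pow_eq_zero (p : ℕ) [hp : Fact p.Prime] [CharP k p] [Algebra.FiniteType k A]
    (hU : IsUnipotent k A) (f : WithConv (A →ₗ[k] k))
    (hf : ∀ a b, f.ofConv (a * b) =
      CoalgebraStruct.counit (R := k) a * f.ofConv b + CoalgebraStruct.counit (R := k) b * f.ofConv a) :
    ∃ n, 0 < n ∧ f ^ p ^ n = 0 := by
  obtain ⟨s, N, hs, hN⟩ := exists_socFil_generators hU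
  have hf1 : f.ofConv 1 = 0 := by
    have := hf 1 1
    rw [mul_one, Bialgebra.counit_one, one_mul] at this
    linear_combination this.symm
  refine ⟨N + 1, Nat.succ_pos _, WithConv.ext (LinearMap.ext fun a => ?_)⟩
  set g := f ^ p ^ (N + 1) with hg
  have hd := pow_prime_pow_mul p f hf (N + 1)
  have hg1 : g.ofConv 1 = 0 := by
    have := hd 1 1
    rw [mul_one, Bialgebra.counit_one, one_mul] at this
    linear_combination this.symm
  have hle : N ≤ p ^ (N + 1) := (Nat.le_succ N).trans (Nat.lt_pow_self hp.out.one_lt).le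
  show g.ofConv a = 0
  have ha : a ∈ Algebra.adjoin k (s : Set A) := hs ▸ Algebra.mem_top
  induction ha using Algebra.adjoin_induction with
  | mem x hx => exact convPow_apply_eq_zero f hf1 N x (hN x hx) _ hle
  | algebraMap c => rw [Algebra.algebraMap_eq_smul_one, map_smul, hg1, smul_zero]
  | add x y _ _ hx hy => rw [map_add, hx, hy, add_zero]
  | mul x y _ _ hx hy => rw [hd x y, hx, hy, mul_zero, mul_zero, add_zero]

end Groth.Agent.HopfUnip26
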