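import Groth.Agent.HopfQuot.Basic
import Groth.Agent.HopfLib.GITPoints
import Groth.Agent.CAlgH.RegularSmooth
import Mathlib.RingTheory.Etale.Field
import Mathlib.RingTheory.Jacobson.Artinian
import Mathlib.RingTheory.HopkinsLevitzki

/-!
# An étale quotient with radiciel kernel over a perfect field
-/

set_option autoImplicit false
set_option backward.isDefEq.respectTransparency.types false
set_option linter.style.haveILetI false

universe u

open TensorProduct WithConv
open Groth.Agent.HopfLib Groth.Agent.HopfQuot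

noncomputable section

namespace Groth.Agent.HopfUnip26

/-- A reduced finite algebra over a perfect field is étale. -/
theorem etale_of_isReduced (k : Type u) [Field k] [PerfectField k] (R : Type u) [CommRing R] [Algebra k R]
    [Module.Finite k R] [IsReduced R] : Algebra.Etale k R := by
  haveI : IsArtinianRing R := .of_finite k R
  have hnil : nilradical R = ⊥ := nilradical_eq_zero R
  let e : R ≃ₐ[R] ∀ I : MaximalSpectrum R, R ⧸ I.asIdeal :=
    ((AlgEquiv.quotientBot R R).symm.trans (Ideal.quotientEquivAlgOfEq R hnil.symm)).trans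
      (IsArtinianRing.quotNilradicalEquivPi R)
  rw [Algebra.Etale.iff_exists_algEquiv_prod]
  exact ⟨MaximalSpectrum R, inferInstance, fun I => R ⧸ I.asIdeal, fun I => Ideal.Quotient.field I.asIdeal,
    inferInstance, e.restrictScalars k, fun I => ⟨inferInstance, inferInstance⟩⟩

/-- A finitely generated algebra with finitely many geometric points is finite. -/
theorem finite_of_finite_points (k K : Type u) [Field k] [Field K] [IsAlgClosed K] [Algebra k K]
    (A : Type u) [CommRing A] [Algebra k A] [Algebra.FiniteType k A] [Finite (A →ₐ[k] K)] :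
    Module.Finite k A := by
  haveI : IsNoetherianRing A := Algebra.FiniteType.isNoetherianRing k A
  haveI : IsJacobsonRing A := isJacobsonRing_of_finiteType (A := k)
  haveI : Finite (MaximalSpectrum A) := by
    classical
    refine Finite.of_surjective (α := A →ₐ[k] K) (β := MaximalSpectrum A)
      (fun x => if h : (RingHom.ker x).IsMaximal then ⟨_, h⟩ else Classical.choice (by
        haveI : Nontrivial A := x.toRingHom.domain_nontrivial
        obtain ⟨m, hm⟩ := Ideal.exists_maximal A
        exact ⟨⟨m, hm⟩⟩)) fun m => ?_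
    haveI := m.isMaximal
    letI := Ideal.Quotient.field m.asIdeal
    haveI : Module.Finite k (A ⧸ m.asIdeal) := finite_of_finite_type_of_isJacobsonRing k _
    let x : A →ₐ[k] K := (IsAlgClosed.lift (M := K) (R := k) (S := A ⧸ m.asIdeal)).comp (Ideal.Quotient.mkₐ k m.asIdeal)
    have hx : RingHom.ker x = m.asIdeal := by
      ext a
      show IsAlgClosed.lift (M := K) (R := k) (S := A ⧸ m.asIdeal) (Ideal.Quotient.mk m.asIdeal a) = 0 ↔ _
      exact (map_eq_zero (IsAlgClosed.lift (M := K) (R := k) (S := A ⧸ m.asIdeal))).trans Ideal.Quotient.eq_zero_iff_mem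
    refine ⟨x, ?_⟩
    simp only [hx, m.isMaximal, dite_true]
  haveI : Ring.KrullDimLE 0 A := Ring.KrullDimLE.mk₀ fun p hp => by
    have h := (IsJacobsonRing.out ‹_› hp.isRadical : p.jacobson = p)
    have hS : {J : Ideal A | p ≤ J ∧ J.IsMaximal}.Finite :=
      (Set.finite_range (MaximalSpectrum.asIdeal (R := A))).subset fun J hJ => ⟨⟨J, hJ.2⟩, rfl⟩
    rw [Ideal.jacobson, ← hS.coe_toFinset, ← Finset.inf_id_eq_sInf] at h
    obtain ⟨J, hJ, hJp⟩ := (hp.inf_le' (s := hS.toFinset) (f := id)).1 h.le
    rw [Set.Finite.mem_toFinset] at hJ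
    exact le_antisymm hJ.1 hJp ▸ hJ.2
  haveI : IsArtinianRing A := isArtinianRing_iff_krullDimLE_zero.2 inferInstance
  exact (Module.finite_iff_isArtinianRing k A).2 inferInstance

variable {k : Type u} [Field k] [PerfectField k] {A C : Type u} [CommRing A] [HopfAlgebra k A]
  [Algebra.FiniteType k A] [CommRing C] [HopfAlgebra k C] [Algebra.Etale k C]
  (ψ : C →ₐc[k] A) (J : Ideal A) [J.IsHopfIdeal k]

omit [PerfectField k] [Algebra.Etale k C] in
theorem point_eq [IsLocalRing (A ⧸ J)] (hJ : J = Ideal.map (ψ : C →+* A) (RingHom.ker (Bialgebra.counitAlgHom k C)))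
    (K : Type u) [Field K] [IsAlgClosed K] [Algebra k K] {x y : A →ₐ[k] K}
    (h : x.comp (ψ : C →ₐ[k] A) = y.comp (ψ : C →ₐ[k] A)) : x = y := by
  let n : Pt k A K := (toConv x)⁻¹ * toConv y
  have hn : n.ofConv.comp (ψ : C →ₐ[k] A) = (1 : WithConv (C →ₐ[k] K)).ofConv := by
    have e1 := AlgHom.convMul_comp_bialgHom_distrib (toConv x)⁻¹ (toConv y) ψ
    have e2 : ((toConv x)⁻¹ * toConv x).ofConv.comp (ψ : C →ₐ[k] A) = _ :=
      AlgHom.convMul_comp_bialgHom_distrib (toConv x)⁻¹ (toConv x) ψ
    rw [show n.ofConv = ((toConv x)⁻¹ * toConv y).ofConv from rfl, e1]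
    rw [inv_mul_cancel] at e2
    simp only at e2 ⊢
    rw [← h, ← e2]
    ext c
    simp [AlgHom.convOne_apply]
  have hkill : J ≤ RingHom.ker n.ofConv := by
    rw [hJ, Ideal.map_le_iff_le_comap]
    intro c hc
    have := AlgHom.congr_fun hn c
    rw [AlgHom.convOne_apply] at this
    show n.ofConv (ψ c) = 0
    rw [show n.ofConv (ψ c) = _ from this, show Coalgebra.counit (R := k) c = 0 from hc, map_zero]
  -- the point factors through the local ring `A ⧸ J`, whose only geometric point is the counit
  let n' : A ⧸ J →ₐ[k] K := Ideal.Quotient.liftₐ J n.ofConv hkill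
  let ε' : A ⧸ J →ₐ[k] k := Bialgebra.counitAlgHom k (A ⧸ J)
  haveI : IsJacobsonRing (A ⧸ J) := isJacobsonRing_of_finiteType (A := k)
  have hprime : ∀ z : A ⧸ J, ε' z = 0 → IsNilpotent z := by
    intro z hz
    rw [← mem_nilradical, nilradical, Ideal.radical_eq_jacobson, Ideal.zero_eq_bot, IsLocalRing.jacobson_eq_maximalIdeal ⊥ bot_ne_top,
      IsLocalRing.mem_maximalIdeal, mem_nonunits_iff]
    intro hu
    exact (hu.map ε').ne_zero hz
  have hn1 : n = 1 := by
    refine ofConv_injective (AlgHom.ext fun a => ?_)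
    have hz : ε' (Ideal.Quotient.mk J a - algebraMap k _ (ε' (Ideal.Quotient.mk J a))) = 0 := by
      rw [map_sub, AlgHom.commutes, Algebra.algebraMap_self, RingHom.id_apply, sub_self]
    have := ((hprime _ hz).map n').eq_zero
    rw [map_sub, AlgHom.commutes, sub_eq_zero] at this
    rw [AlgHom.convOne_apply]
    exact this
  rw [inv_mul_eq_one] at hn1
  exact congrArg ofConv hn1

/-- Every element is, up to a nilpotent, in the image of the étale quotient. -/
theorem exists_sub_nilpotent [IsLocalRing (A ⧸ J)] (hψ : Function.Injective ψ)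
    (hJ : J = Ideal.map (ψ : C →+* A) (RingHom.ker (Bialgebra.counitAlgHom k C))) (a : A) :
    ∃ c : C, IsNilpotent (a - ψ c) := by
  let K := AlgebraicClosure k
  haveI : Module.Finite k C := Algebra.FormallyUnramified.finite_of_free k C
  let res : (A →ₐ[k] K) → (C →ₐ[k] K) := fun x => x.comp (ψ : C →ₐ[k] A)
  have hres : Function.Injective res := fun x y h => point_eq ψ J hJ K h
  haveI : Finite (C →ₐ[k] K) := Finite.of_fintype _
  haveI : Finite (A →ₐ[k] K) := Finite.of_injective res hres
  haveI := finite_of_finite_points k K A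
  let R := A ⧸ nilradical A
  haveI : IsReduced R := (Ideal.isRadical_iff_quotient_reduced _).1 (Ideal.radical_isRadical _)
  haveI := etale_of_isReduced k R
  haveI : IsReduced (K ⊗[k] R) := CAlgH.isReduced_of_smooth K (K ⊗[k] R)
  -- `dim R ≤ #points ≤ dim C`
  letI := Fintype.ofFinite (A →ₐ[k] K)
  let toA : (K ⊗[k] R →ₐ[K] K) → (A →ₐ[k] K) := fun z =>
    ((z.restrictScalars k).comp Algebra.TensorProduct.includeRight).comp (Ideal.Quotient.mkₐ k _)
  have htoA : Function.Injective toA := fun z w h => by
    refine Algebra.TensorProduct.ext (by ext) (AlgHom.ext fun r => ?_)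
    obtain ⟨a, rfl⟩ := Ideal.Quotient.mk_surjective r
    exact AlgHom.congr_fun h a
  haveI : Finite (K ⊗[k] R →ₐ[K] K) := Finite.of_injective toA htoA
  letI := Fintype.ofFinite (K ⊗[k] R →ₐ[K] K)
  have h1 : Module.finrank k R ≤ Fintype.card (A →ₐ[k] K) := by
    rw [← Module.finrank_baseChange (R := K) (S := k) (M' := R)]
    refine le_trans ?_ (Fintype.card_le_of_injective toA htoA)
    rw [← Module.finrank_fintype_fun_eq_card K]
    refine LinearMap.finrank_le_finrank_of_injective
      (f := LinearMap.pi fun z : K ⊗[k] R →ₐ[K] K => z.toLinearMap) fun p q hpq => ?_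
    by_contra hne
    obtain ⟨z, hz⟩ := exists_algHom_ne_zero (k := K) (f := p - q) fun hn => hne (sub_eq_zero.1 hn.eq_zero)
    exact hz (by rw [map_sub, sub_eq_zero]; exact congrFun hpq z)
  letI := Fintype.ofFinite (C →ₐ[k] K)
  have h2 : Fintype.card (C →ₐ[k] K) ≤ Module.finrank k C := by
    refine (linearIndependent_algHom_toLinearMap k C K).fintype_card_le_finrank.trans_eq ?_
    rw [Module.finrank_linearMap, Module.finrank_self, mul_one]
  have h3 : Fintype.card (A →ₐ[k] K) ≤ Fintype.card (C →ₐ[k] K) := Fintype.card_le_of_injective res hres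
  haveI : IsReduced C := CAlgH.isReduced_of_smooth k C
  let f : C →ₐ[k] R := (Ideal.Quotient.mkₐ k (nilradical A)).comp (ψ : C →ₐ[k] A)
  have hinj : Function.Injective f := by
    rw [injective_iff_map_eq_zero]
    intro c hc
    obtain ⟨n, hn⟩ := mem_nilradical.1 (Ideal.Quotient.eq_zero_iff_mem.1 hc)
    exact IsNilpotent.eq_zero ⟨n, hψ (by rw [map_pow, map_zero]; exact hn)⟩
  have hsurj : Function.Surjective f :=
    (LinearMap.injective_iff_surjective_of_finrank_eq_finrank
      (le_antisymm (LinearMap.finrank_le_finrank_of_injective (f := f.toLinearMap) hinj)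
        ((h1.trans h3).trans h2)) (f := f.toLinearMap)).1 hinj
  obtain ⟨c, hc⟩ := hsurj (Ideal.Quotient.mk _ a)
  exact ⟨c, mem_nilradical.1 (Ideal.Quotient.eq.1 hc.symm)⟩

/-- The étale quotient lifts uniquely, with image the reduced subgroup. -/
theorem existsUnique_lift [IsLocalRing (A ⧸ J)] (hψ : Function.Injective ψ)
    (hJ : J = Ideal.map (ψ : C →+* A) (RingHom.ker (Bialgebra.counitAlgHom k C))) :
    (∃! r : A →ₐc[k] C, r.comp ψ = BialgHom.id k C) ∧
      ∀ r : A →ₐc[k] C, r.comp ψ = BialgHom.id k C → RingHom.ker (r : A →+* C) = nilradical A := by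
  choose s hs using exists_sub_nilpotent ψ J hψ hJ
  haveI : IsReduced C := CAlgH.isReduced_of_smooth k C
  haveI : IsReduced (C ⊗[k] C) := CAlgH.isReduced_of_smooth C (C ⊗[k] C)
  have huniq : ∀ a c, IsNilpotent (a - ψ c) → s a = c := fun a c h => by
    have : IsNilpotent (ψ (s a - c)) := by
      rw [map_sub, show ψ (s a) - ψ c = (a - ψ c) - (a - ψ (s a)) by ring]
      exact (Commute.all _ _).isNilpotent_sub h (hs a)
    obtain ⟨n, hn⟩ := this
    exact sub_eq_zero.1 (IsNilpotent.eq_zero ⟨n, hψ (by rw [map_pow, map_zero]; exact hn)⟩)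
  let rA : A →ₐ[k] C :=
    { toFun := s
      map_one' := huniq _ _ (by simp)
      map_zero' := huniq _ _ (by simp)
      map_add' := fun a b => huniq _ _ (by
        rw [map_add, show a + b - (ψ (s a) + ψ (s b)) = (a - ψ (s a)) + (b - ψ (s b)) by ring]
        exact (Commute.all _ _).isNilpotent_add (hs a) (hs b))
      map_mul' := fun a b => huniq _ _ (by
        rw [map_mul, show a * b - ψ (s a) * ψ (s b) = (a - ψ (s a)) * b + ψ (s a) * (b - ψ (s b)) by ring]
        exact (Commute.all _ _).isNilpotent_add ((Commute.all _ _).isNilpotent_mul_right (hs a))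
          ((Commute.all _ _).isNilpotent_mul_left (hs b)))
      commutes' := fun c => huniq _ _ (by
        rw [show ψ (algebraMap k C c) = algebraMap k A c from AlgHom.commutes (ψ : C →ₐ[k] A) c, sub_self]
        exact IsNilpotent.zero) }
  have hrψ : ∀ c, rA (ψ c) = c := fun c => huniq _ _ (by simp)
  have ext' : ∀ {D : Type u} [CommRing D] [Algebra k D] [IsReduced D] (f g : A →ₐ[k] D),
      (∀ c, f (ψ c) = g (ψ c)) → f = g := fun f g h => AlgHom.ext fun a => by
    have hf := ((hs a).map f).eq_zero
    have hg := ((hs a).map g).eq_zero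
    rw [map_sub, sub_eq_zero] at hf hg
    rw [hf, hg, h]
  let r : A →ₐc[k] C := BialgHom.ofAlgHom rA (ext' _ _ fun c => by
      show Coalgebra.counit (R := k) (rA (ψ c)) = Coalgebra.counit (R := k) (ψ c)
      rw [hrψ, CoalgHomClass.counit_comp_apply ψ c])
    (ext' _ _ fun c => by
      show Algebra.TensorProduct.map rA rA (Coalgebra.comul (R := k) (ψ c)) = Coalgebra.comul (R := k) (rA (ψ c))
      rw [hrψ, ← CoalgHomClass.map_comp_comul_apply ψ c]
      induction Coalgebra.comul (R := k) c using TensorProduct.induction_on with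
      | zero => simp
      | add p q hp hq => simp only [map_add, hp, hq]
      | tmul p q => simp [hrψ])
  have hr : r.comp ψ = BialgHom.id k C := BialgHom.ext fun c => hrψ c
  have hall : ∀ r' : A →ₐc[k] C, r'.comp ψ = BialgHom.id k C → ∀ a, r' a = s a := fun r' h a => by
    have h1 := ((hs a).map r').eq_zero
    rw [map_sub, sub_eq_zero] at h1
    rw [h1]
    exact DFunLike.congr_fun h (s a)
  refine ⟨⟨r, hr, fun r' hr' => BialgHom.ext fun a => (hall r' hr' a)⟩, fun r' hr' => ?_⟩
  ext a
  rw [RingHom.mem_ker, mem_nilradical]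
  refine ⟨fun h => ?_, fun h => (h.map r').eq_zero⟩
  have h' : s a = 0 := by rw [← hall r' hr' a]; exact h
  simpa [h'] using hs a

end Groth.Agent.HopfUnip26
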